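import Cfsg.Agent.Lib.Blocks.AbelianEqualDegree.Frame
import Cfsg.Agent.Lib.BrauerPairs.MinimalDim

/-!
# The centre of a block whose characters all have one degree

For a frame with first idempotent `j₀`:
* `zL`, `zR`: the central element of the block over an element of the corner of `j₀`;
* `coeff_zR`: its coefficient at a regular `g` is `ξ g⁻¹` times the coefficient at `1` in the corner;
* `zR_mul`: it is multiplicative on the corner;
* `dvd_card_block`: the order of a defect group divides the number of members;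
* `card_block_le_corner`: the corner has at least that dimension as there are members.
-/

set_option autoImplicit false
set_option linter.unusedSectionVars false
set_option linter.style.haveILetI false
set_option maxHeartbeats 1000000
set_option synthInstance.maxHeartbeats 200000

namespace Cfsg.Agent.AbelianEqualDegree

open Cfsg Cfsg.Agent.Blocks Cfsg.Agent.BrauerPairs Cfsg.Agent.EqualDegree Cfsg.Agent.BrauerChar

variable {G : Type*} [Group G] [Finite G] {p : ℕ} [Fact p.Prime] {M : Ideal AlgInt}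

/-- Column orthogonality against the identity. -/
theorem card_mul_coeff_one (hM : IsPModular p M) [Fintype (IrrCharacter G)]
    (a : Star.Loc hM G) :
    (Nat.card G : ℂ) * ((a.coeff 1 : locRing hM) : ℂ) =
      ∑ χ : IrrCharacter G, (χ : G → ℂ) 1 * Star.trL hM (χ : G → ℂ) a := by
  classical
  induction a using MonoidAlgebra.induction_linear with
  | zero => simp [trL_zero]
  | add a b ha hb =>
    simp only [MonoidAlgebra.coeff_add, Finsupp.add_apply, Subring.coe_add, mul_add, ha, hb,
      trL_add, Finset.sum_add_distrib]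
  | single g r =>
    have := Fintype.ofFinite G
    simp only [trL_single, MonoidAlgebra.coeff_single, mul_left_comm _ (r : ℂ), ← Finset.mul_sum,
      Char.sum_degree_mul_apply]
    by_cases hg : g = 1
    · subst hg; simp [mul_comm]
    · simp [hg, Ne.symm hg]

theorem coeff_one_mul_comm {k : Type*} [CommRing k] (a b : MonoidAlgebra k G) :
    (a * b).coeff 1 = (b * a).coeff 1 := by
  have := Fintype.ofFinite G
  rw [BrauerPairs.coeff_mul_eq_sum, BrauerPairs.coeff_mul_eq_sum]
  refine Fintype.sum_equiv (Equiv.inv G) _ _ fun y => ?_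
  simp [mul_comm]

variable {hM : IsPModular p M} {B : Set (IrrCharacter G)} {hB : IsPBlock M B} {d : ℕ}
  (F : Frame (hM := hM) hB d)

/-- The central element over an element of the corner, over the local ring. -/
noncomputable def Frame.zL (r : Star.Loc hM G) : Star.Loc hM G :=
  ∑ q ∈ F.P, F.A' q * r * F.A q

/-- The reduced first idempotent. -/
noncomputable def Frame.J : MonoidAlgebra (Res M) G := Star.rd hM F.j₀

/-- The central element over an element of the corner, modulo `M`. -/
noncomputable def Frame.zR (y : MonoidAlgebra (Res M) G) : MonoidAlgebra (Res M) G :=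
  ∑ q ∈ F.P, Star.rd hM (F.A' q) * y * Star.rd hM (F.A q)

theorem Frame.rd_zL (r : Star.Loc hM G) : Star.rd hM (F.zL r) = F.zR (Star.rd hM r) := by
  simp [Frame.zL, Frame.zR, map_sum, map_mul]

theorem Frame.J_mul_J : F.J * F.J = F.J := by rw [Frame.J, ← map_mul, F.idem]

theorem Frame.trL_zL (r w : Star.Loc hM G) (χ : IrrCharacter G) :
    (χ ∈ B → Star.trL hM (χ : G → ℂ) (F.zL r * w) =
      Star.trL hM (χ : G → ℂ) (F.j₀ * r) * Star.trL hM (χ : G → ℂ) (bL hM hB * w)) ∧
    (χ ∉ B → Star.trL hM (χ : G → ℂ) (F.zL r * w) = 0) := by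
  have hch := Char.IsIrrCharacter.isCharacter χ.2
  have hcl := Blocks.irr_class χ
  have hterm : ∀ q ∈ F.P, F.A' q * r * F.A q * w = F.A' q * (F.j₀ * r * F.j₀ * (F.A q * w)) := by
    intro q hq
    conv_lhs => rw [← F.A'_j q hq, ← F.j_A q hq]
    simp only [mul_assoc]
  constructor
  · intro hχ
    rw [Frame.zL, Finset.sum_mul, trL_sum, ← F.sum, Finset.sum_mul, trL_sum, Finset.mul_sum]
    refine Finset.sum_congr rfl fun q hq => ?_
    rw [hterm q hq, Star.trL_mul_comm hM hcl, mul_assoc _ (F.A q * w),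
      trL_sandwich_mul hM hch F.idem (Or.inr (F.trL_mem χ hχ))]
    congr 1
    rw [← mul_assoc, ← mul_assoc, F.j_A q hq, Star.trL_mul_comm hM hcl, ← mul_assoc,
      F.A'_A q hq]
  · intro hχ
    rw [Frame.zL, Finset.sum_mul, trL_sum]
    refine Finset.sum_eq_zero fun q hq => ?_
    rw [hterm q hq, Star.trL_mul_comm hM hcl, mul_assoc _ (F.A q * w), mul_assoc, mul_assoc]
    exact trL_mul_eq_zero hM hch F.idem (F.trL_notMem χ hχ) _

theorem Frame.el_mul_zL (g : G) (r : Star.Loc hM G) :
    Star.el hM g * F.zL r = F.zL r * Star.el hM g := by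
  refine sub_eq_zero.1 (eq_zero_of_trL hM fun χ a => ?_)
  have hcl := Blocks.irr_class χ
  rw [sub_mul, trL_sub, sub_eq_zero, mul_assoc, Star.trL_mul_comm hM hcl (Star.el hM g),
    mul_assoc, mul_assoc]
  by_cases hχ : χ ∈ B
  · rw [(F.trL_zL r _ χ).1 hχ, (F.trL_zL r _ χ).1 hχ, ← mul_assoc,
      Star.trL_mul_comm hM hcl _ (Star.el hM g), ← mul_assoc, ← mul_assoc, el_mul_bL hM hB g]
  · rw [(F.trL_zL r _ χ).2 hχ, (F.trL_zL r _ χ).2 hχ]

theorem Frame.fixed_zR (y : MonoidAlgebra (Res M) G) : Fixed ⊤ (F.zR y) := by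
  intro u _
  have h := congrArg (Star.rd hM) (F.el_mul_zL u (Star.liftEl hM y))
  rw [map_mul, map_mul, rd_el, F.rd_zL, Star.rd_liftEl] at h
  ext x
  have h' := congrArg (fun z : MonoidAlgebra (Res M) G => z.coeff (x * u)) h
  simp only [MonoidAlgebra.coeff_single_mul_apply, MonoidAlgebra.coeff_mul_single_apply,
    one_mul, mul_one, mul_inv_cancel_right, ← mul_assoc] at h'
  rw [coeff_cj]
  exact h'

theorem Frame.coeff_zL {g : G} (hg : ¬ p ∣ orderOf g) {ξ : IrrCharacter G} (hξ : ξ ∈ B)
    (hdeg : ∀ χ : IrrCharacter G, χ ∈ B → charDegree (χ : G → ℂ) = d) (r : Star.Loc hM G) :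
    (((F.zL r).coeff g : locRing hM) : ℂ) =
      (ξ : G → ℂ) g⁻¹ * (((F.j₀ * r).coeff 1 : locRing hM) : ℂ) := by
  classical
  have := Fintype.ofFinite (IrrCharacter G)
  have e1 : (F.zL r).coeff g = (F.zL r * Star.el hM g⁻¹).coeff 1 := by
    rw [Star.el, MonoidAlgebra.coeff_mul_single_apply, mul_one, inv_inv, one_mul]
  apply mul_left_cancel₀ (card_ne_zero_C (G := G))
  rw [e1, card_mul_coeff_one hM, mul_left_comm, card_mul_coeff_one hM, Finset.mul_sum]
  refine Finset.sum_congr rfl fun χ _ => ?_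
  by_cases hχ : χ ∈ B
  · rw [(F.trL_zL r _ χ).1 hχ, ← el_mul_bL hM hB, trL_mul_bL hB, if_pos hχ, Star.el, trL_single,
      F.reg ξ hξ χ hχ g⁻¹ (by rwa [orderOf_inv])]
    push_cast
    ring
  · rw [(F.trL_zL r _ χ).2 hχ, trL_mul_eq_zero hM (Char.IsIrrCharacter.isCharacter χ.2) F.idem
      (F.trL_notMem χ hχ)]
    ring

theorem Frame.coeff_zR {g : G} (hg : ¬ p ∣ orderOf g) {ξ : IrrCharacter G} (hξ : ξ ∈ B)
    (hdeg : ∀ χ : IrrCharacter G, χ ∈ B → charDegree (χ : G → ℂ) = d)
    (y : MonoidAlgebra (Res M) G) :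
    (F.zR y).coeff g = res M ((ξ : G → ℂ) g⁻¹) * (F.J * y).coeff 1 := by
  have h := F.coeff_zL hg hξ hdeg (Star.liftEl hM y)
  rw [← Star.rd_liftEl hM y, ← F.rd_zL, Frame.J, ← map_mul, Star.coeff_rd, Star.coeff_rd, h,
    res_mul hM (memR_of_isIntegral hM (isIntegral_irr ξ _)) ((F.j₀ * Star.liftEl hM y).coeff 1).2]

/-! ### The corner -/

theorem Frame.A_A'_ne {q r : Star.Loc hM G} (hq : q ∈ F.P) (hr : r ∈ F.P) (hne : q ≠ r) :
    F.A q * F.A' r = 0 := by
  rw [← F.A_q q hq, ← F.q_A' r hr, mul_assoc, ← mul_assoc q, F.orth q hq r hr hne, zero_mul,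
    mul_zero]

theorem Frame.zR_J : F.zR F.J = blk M B := by
  rw [Frame.J, ← F.rd_zL, ← rd_bL hM hB, ← F.sum, Frame.zL, map_sum, map_sum]
  refine Finset.sum_congr rfl fun q hq => congrArg _ ?_
  rw [F.A'_j q hq, F.A'_A q hq]

/-- The corner of the first idempotent. -/
def Frame.InC (y : MonoidAlgebra (Res M) G) : Prop := F.J * y = y ∧ y * F.J = y

theorem Frame.sandwich (x : MonoidAlgebra (Res M) G) : F.InC (F.J * x * F.J) :=
  ⟨by rw [← mul_assoc, ← mul_assoc, F.J_mul_J], by rw [mul_assoc, F.J_mul_J]⟩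

theorem Frame.zR_mul {x y : MonoidAlgebra (Res M) G} (hx : F.InC x) (hy : F.InC y) :
    F.zR x * F.zR y = F.zR (x * y) := by
  simp only [Frame.zR, Finset.sum_mul, Finset.mul_sum]
  refine Finset.sum_congr rfl fun q hq => ?_
  rw [Finset.sum_eq_single q]
  · calc Star.rd hM (F.A' q) * x * Star.rd hM (F.A q) *
          (Star.rd hM (F.A' q) * y * Star.rd hM (F.A q))
        = Star.rd hM (F.A' q) * x * Star.rd hM (F.A q * F.A' q) * y * Star.rd hM (F.A q) := by
          simp only [map_mul, mul_assoc]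
      _ = Star.rd hM (F.A' q) * (x * F.J) * y * Star.rd hM (F.A q) := by
          rw [F.A_A' q hq]; simp only [Frame.J, mul_assoc]
      _ = _ := by rw [hx.2]; simp only [mul_assoc]
  · intro r hr hne
    calc Star.rd hM (F.A' r) * x * Star.rd hM (F.A r) *
          (Star.rd hM (F.A' q) * y * Star.rd hM (F.A q))
        = Star.rd hM (F.A' r) * x * Star.rd hM (F.A r * F.A' q) * y * Star.rd hM (F.A q) := by
          simp only [map_mul, mul_assoc]
      _ = 0 := by rw [F.A_A'_ne hr hq hne]; simp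
  · exact fun h => absurd hq h

theorem Frame.zR_mul_blk {x : MonoidAlgebra (Res M) G} (hx : F.InC x) :
    F.zR x * blk M B = F.zR x := by
  rw [← F.zR_J, F.zR_mul hx ⟨F.J_mul_J, F.J_mul_J⟩, hx.2]

/-- The corner as a space. -/
noncomputable def Frame.Corner :
    letI := ModRep.resField hM
    Submodule (Res M) (MonoidAlgebra (Res M) G) :=
  letI := ModRep.resField hM
  { carrier := {y | F.InC y}
    zero_mem' := ⟨mul_zero _, zero_mul _⟩
    add_mem' := fun {a b} ha hb => ⟨by rw [mul_add, ha.1, hb.1], by rw [add_mul, ha.2, hb.2]⟩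
    smul_mem' := fun c {a} ha =>
      ⟨by rw [mul_smul_comm, ha.1], by rw [smul_mul_assoc, ha.2]⟩ }

theorem Frame.card_block_le_corner
    (hdeg : ∀ χ : IrrCharacter G, χ ∈ B → charDegree (χ : G → ℂ) = d) (hd : 0 < d) :
    letI := ModRep.resField hM
    Nat.card B ≤ Module.finrank (Res M) F.Corner := by
  classical
  letI := ModRep.resField hM
  have := Fintype.ofFinite G
  have := Fintype.ofFinite (IrrCharacter G)
  haveI : Module.Finite (Res M) (MonoidAlgebra (Res M) G) :=
    Module.Finite.equiv ((Finsupp.linearEquivFunOnFinite (Res M) (Res M) G).symm.trans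
      (MonoidAlgebra.coeffLinearEquiv (Res M)).symm)
  have h1 := finrank_translation_eq (G := G) hM hB
  set T := Matrix.toLin' (Matrix.of fun x y : G => (blk M B).coeff (x * y⁻¹)) with hT
  let el : (G → Res M) →ₗ[Res M] MonoidAlgebra (Res M) G :=
    (MonoidAlgebra.coeffLinearEquiv (Res M)).symm.toLinearMap.comp
      (Finsupp.linearEquivFunOnFinite (Res M) (Res M) G).symm.toLinearMap
  have hel : ∀ v x, (el v).coeff x = v x := fun v x => by simp [el]
  have hTel : ∀ v, el (T v) = blk M B * el v := fun v => by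
    ext x
    rw [hel, hT, Matrix.toLin'_apply, BrauerPairs.coeff_mul_eq_sum, Matrix.mulVec, dotProduct]
    refine Fintype.sum_equiv ((Equiv.inv G).trans (Equiv.mulLeft x)) _ _ fun y => ?_
    simp [hel, mul_assoc]
  let pick : MonoidAlgebra (Res M) G →ₗ[Res M] (F.P × F.P → F.Corner) :=
    { toFun := fun x i => ⟨F.J * (Star.rd hM (F.A i.1.1) * x * Star.rd hM (F.A' i.2.1)) * F.J,
        F.sandwich _⟩
      map_add' := fun a b => funext fun i => Subtype.ext (by
        simp only [Pi.add_apply, Submodule.coe_add, mul_add, add_mul])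
      map_smul' := fun c a => funext fun i => Subtype.ext (by
        simp only [Pi.smul_apply, Submodule.coe_smul, RingHom.id_apply, mul_smul_comm,
          smul_mul_assoc]) }
  have hJA : ∀ q ∈ F.P, F.J * Star.rd hM (F.A q) = Star.rd hM (F.A q) := fun q hq => by
    rw [Frame.J, ← map_mul, F.j_A q hq]
  have hA'J : ∀ q ∈ F.P, Star.rd hM (F.A' q) * F.J = Star.rd hM (F.A' q) := fun q hq => by
    rw [Frame.J, ← map_mul, F.A'_j q hq]
  have hker : ∀ x, blk M B * x = x → pick x = 0 → x = 0 := by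
    intro x hx h0
    have hcomm : x * blk M B = x := by
      rw [← (fixed_blk (M := M) B).commute (SuppIn.top (a := x)), hx]
    have h2 : ∑ q ∈ F.P, ∑ r ∈ F.P, Star.rd hM q * x * Star.rd hM r = x := by
      simp only [← Finset.mul_sum, ← Finset.sum_mul]
      rw [← map_sum (Star.rd hM) (fun q => q), F.sum, rd_bL hM hB, hx, hcomm]
    rw [← h2]
    refine Finset.sum_eq_zero fun q hq => Finset.sum_eq_zero fun r hr => ?_
    have h3 := congrArg Subtype.val (congrFun h0 (⟨q, hq⟩, ⟨r, hr⟩))
    change F.J * (Star.rd hM (F.A q) * x * Star.rd hM (F.A' r)) * F.J = 0 at h3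
    rw [mul_assoc, mul_assoc, hA'J r hr, ← mul_assoc, ← mul_assoc, hJA q hq] at h3
    rw [← F.A'_A q hq, ← F.A'_A r hr, map_mul, map_mul,
      show Star.rd hM (F.A' q) * Star.rd hM (F.A q) * x * (Star.rd hM (F.A' r) * Star.rd hM (F.A r))
        = Star.rd hM (F.A' q) * (Star.rd hM (F.A q) * x * Star.rd hM (F.A' r)) * Star.rd hM (F.A r)
        by simp only [mul_assoc], h3, mul_zero, zero_mul]
  let Θ : LinearMap.range T →ₗ[Res M] (F.P × F.P → F.Corner) :=
    (pick.comp el).comp (LinearMap.range T).subtype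
  have hΘ : Function.Injective Θ := by
    rw [← LinearMap.ker_eq_bot, LinearMap.ker_eq_bot']
    rintro ⟨_, v, rfl⟩ h0
    have h2 : el (T v) = 0 := hker _ (by rw [hTel, ← mul_assoc, blk_mul_self hM hB]) h0
    refine Subtype.ext (funext fun x => ?_)
    have h3 := congrArg (fun a : MonoidAlgebra (Res M) G => a.coeff x) h2
    simpa [hel] using h3
  have h2 := LinearMap.finrank_le_finrank_of_injective hΘ
  rw [Module.finrank_pi_fintype, Finset.sum_const, smul_eq_mul, Finset.card_univ,
    Fintype.card_prod, Fintype.card_coe, F.card] at h2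
  have h3 : Module.finrank (Res M) (LinearMap.range T) = Nat.card B * (d * d) := by
    apply Nat.cast_injective (R := ℂ)
    rw [h1, finsum_mem_eq_toFinset_sum, Finset.sum_congr rfl fun χ hχ => by
      rw [hdeg χ (Set.mem_toFinset.1 hχ)], Finset.sum_const, nsmul_eq_mul,
      Nat.card_eq_fintype_card, Set.toFinset_card]
    push_cast
    ring
  rw [h3, mul_comm] at h2
  exact Nat.le_of_mul_le_mul_left h2 (Nat.mul_pos hd hd)

include F in
theorem Frame.dvd_card_block {D : Subgroup G} (hD : IsDefectGroup p M B D)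
    (hdeg : ∀ χ : IrrCharacter G, χ ∈ B → charDegree (χ : G → ℂ) = d) :
    Nat.card D ∣ Nat.card B := by
  classical
  have hp : p.Prime := Fact.out
  have := Fintype.ofFinite (IrrCharacter G)
  set a := (Nat.card G).factorization p with ha
  set u : ℂ := ((F.j₀.coeff 1 : locRing hM) : ℂ) with hu
  have hu' : (Nat.card G : ℂ) * u = ((d * Nat.card B : ℕ) : ℂ) := by
    rw [hu, card_mul_coeff_one hM, Finset.sum_congr rfl (g := fun χ => if χ ∈ B then (d : ℂ) else 0),
      ← Finset.sum_filter, Finset.sum_const, nsmul_eq_mul, Nat.card_eq_fintype_card,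
      Fintype.card_subtype]
    · push_cast; ring
    · intro χ _
      split_ifs with h
      · rw [F.trL_mem χ h, mul_one, ← charDegree_cast, hdeg χ h]
      · rw [F.trL_notMem χ h, mul_zero]
  obtain ⟨ξ, hξ⟩ := isPBlock_nonempty hM hB
  have hd : 0 < d := hdeg ξ hξ ▸ charDegree_pos ξ
  have hk : 0 < Nat.card B := Nat.card_pos_iff.2 ⟨⟨⟨ξ, hξ⟩⟩, inferInstance⟩
  have hN : d * Nat.card B ≠ 0 := (Nat.mul_pos hd hk).ne'
  have hval : a ≤ (d * Nat.card B).factorization p := by
    by_contra hlt
    push Not at hlt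
    set v := (d * Nat.card B).factorization p
    obtain ⟨m, hm⟩ := Nat.ordProj_dvd (Nat.card G) p
    obtain ⟨q, hq⟩ := Nat.ordProj_dvd (d * Nat.card B) p
    have hq0 : ¬ p ∣ q := by
      intro h
      obtain ⟨q', rfl⟩ := h
      have : p ^ (v + 1) ∣ d * Nat.card B := ⟨q', by rw [hq, pow_succ, mul_assoc]⟩
      exact absurd ((hp.pow_dvd_iff_le_factorization hN).1 this) (Nat.not_succ_le_self v)
    have hq' : (q : ℂ) = ((p ^ (a - v) * m : ℕ) : ℂ) * u := by
      apply mul_left_cancel₀ (show ((p ^ v : ℕ) : ℂ) ≠ 0 from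
        Nat.cast_ne_zero.2 (pow_ne_zero _ hp.ne_zero))
      rw [← mul_assoc, ← Nat.cast_mul, ← Nat.cast_mul, ← hq, ← mul_assoc, ← pow_add,
        Nat.add_sub_cancel' hlt.le, ← hm, hu']
    have h1 : MemLocalIdeal M (q : ℂ) := by
      rw [← res_eq_zero_iff hM (memR_natCast hM q), hq',
        res_mul hM (memR_natCast hM _) (F.j₀.coeff 1).2, res_natCast hM]
      haveI := res_charP hM
      rw [(CharP.cast_eq_zero_iff (Res M) p _).2
        (Dvd.dvd.mul_right (dvd_pow_self p (by omega : a - v ≠ 0)) _), zero_mul]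
    exact hq0 ((memI_natCast hM).1 h1)
  have hsInf : sInf ((fun χ : IrrCharacter G => (charDegree (χ : G → ℂ)).factorization p) '' B) =
      d.factorization p := by
    have h : (fun χ : IrrCharacter G => (charDegree (χ : G → ℂ)).factorization p) '' B =
        {d.factorization p} := by
      ext x
      constructor
      · rintro ⟨χ, hχ, rfl⟩
        exact congrArg (fun n => Nat.factorization n p) (hdeg χ hχ)
      · rintro rfl; exact ⟨ξ, hξ, congrArg (fun n => Nat.factorization n p) (hdeg ξ hξ)⟩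
    rw [h, csInf_singleton]
  rw [card_defectGroup hM hB hD, blockDefect, hsInf, hp.pow_dvd_iff_le_factorization hk.ne']
  rw [Nat.factorization_mul hd.ne' hk.ne', Finsupp.add_apply] at hval
  omega

end Cfsg.Agent.AbelianEqualDegree
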