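import Cfsg.Agent.Lib.Blocks.AbelianEqualDegree.Idem

/-!
# Matrix units in a block whose characters all have one degree

* `exists_rkS_prim`: every primitive idempotent of the block has rank one on a simple
  representation of the block;
* `exists_frame`: if all characters of a block have degree `d`, the block idempotent is the sum
  of `d` associated primitive idempotents of trace one on every member, and the members agree on
  the regular elements.
-/

set_option autoImplicit false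
set_option linter.unusedSectionVars false
set_option linter.style.haveILetI false
set_option maxHeartbeats 1000000
set_option synthInstance.maxHeartbeats 200000

namespace Cfsg.Agent.AbelianEqualDegree

open Cfsg Cfsg.Agent.Blocks Cfsg.Agent.BrauerPairs Cfsg.Agent.EqualDegree Cfsg.Agent.BrauerChar

variable {G : Type*} [Group G] [Finite G] {p : ℕ} [Fact p.Prime] {M : Ideal AlgInt}

/-- An element killed by all characters vanishes. -/
theorem eq_zero_of_trL (hM : IsPModular p M) {y : Star.Loc hM G}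
    (h : ∀ χ : IrrCharacter G, ∀ a : Star.Loc hM G, Star.trL hM (χ : G → ℂ) (y * a) = 0) :
    y = 0 := by
  have h1 := mapL_eq_zero hM (φ := MonoidHom.id G) (fun g => ⟨g, rfl⟩) (y := y) h
  rwa [mapL, MonoidAlgebra.mapDomainRingHom_id, RingHom.id_apply] at h1

theorem eq_zero_of_trL_idem (hM : IsPModular p M) {y : Star.Loc hM G} (hy : y * y = y)
    (h : ∀ χ : IrrCharacter G, Star.trL hM (χ : G → ℂ) y = 0) : y = 0 :=
  eq_zero_of_trL hM fun χ a =>
    trL_mul_eq_zero hM (Char.IsIrrCharacter.isCharacter χ.2) hy (h χ) a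

variable {hM : IsPModular p M} {B : Set (IrrCharacter G)}

theorem trL_corner_eq_zero (hB : IsPBlock M B) {u : Star.Loc hM G}
    (hu : Star.InCorner (bL hM hB) u) {χ : IrrCharacter G} (hχ : χ ∉ B) :
    Star.trL hM (χ : G → ℂ) u = 0 := by
  rw [← hu.1]
  exact trL_mul_eq_zero hM (Char.IsIrrCharacter.isCharacter χ.2) (bL_mul_self hM hB)
    ((trL_bL hM hB χ).2 hχ) u

/-- Every primitive idempotent of the block has rank one on a simple representation in it. -/
theorem exists_rkS_prim (hB : IsPBlock M B) {j : Star.Loc hM G}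
    (hj : Star.IsPrim (hM := hM) ⊥ j) (hjc : Star.InCorner (bL hM hB) j) :
    ∃ s : SimpR hM G, InB hM B s ∧ rkS hM s j = 1 ∧ ∀ t, t ≠ s → rkS hM t j = 0 := by
  classical
  obtain ⟨χ, hχ⟩ : ∃ χ : IrrCharacter G, Star.trL hM (χ : G → ℂ) j ≠ 0 := by
    by_contra h
    push Not at h
    exact hj.2.2.1 (eq_zero_of_trL_idem hM hj.2.1 h)
  have hχB : χ ∈ B := by
    by_contra h
    exact hχ (trL_corner_eq_zero hB hjc h)
  obtain ⟨d, hd0, hd, -⟩ := BrauerChar.exists_decomp (hM := hM) hB hχB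
  rw [hd j hj.2.1] at hχ
  obtain ⟨s, -, hs⟩ := Finset.exists_ne_zero_of_sum_ne_zero hχ
  have hrk : rkS hM s j ≠ 0 := fun h0 => hs (by rw [h0, Nat.cast_zero, mul_zero])
  refine ⟨s, ?_, le_antisymm (rkS_prim_le_one hj s) (Nat.one_le_iff_ne_zero.2 hrk), fun t hts => ?_⟩
  · by_contra h
    exact hs (by rw [hd0 s h, Int.cast_zero, zero_mul])
  · by_contra h
    exact hts (eq_of_rkS_prim hj h hrk)

/-- Matrix units of a block whose characters share the degree `d`. -/
structure Frame (hB : IsPBlock M B) (d : ℕ) where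
  P : Finset (Star.Loc hM G)
  j₀ : Star.Loc hM G
  A : Star.Loc hM G → Star.Loc hM G
  A' : Star.Loc hM G → Star.Loc hM G
  mem : j₀ ∈ P
  idem : j₀ * j₀ = j₀
  card : P.card = d
  sum : ∑ q ∈ P, q = bL hM hB
  j_A : ∀ q ∈ P, j₀ * A q = A q
  A_q : ∀ q ∈ P, A q * q = A q
  q_A' : ∀ q ∈ P, q * A' q = A' q
  A'_j : ∀ q ∈ P, A' q * j₀ = A' q
  A_A' : ∀ q ∈ P, A q * A' q = j₀
  A'_A : ∀ q ∈ P, A' q * A q = q
  orth : ∀ q ∈ P, ∀ r ∈ P, q ≠ r → q * r = 0
  trL_mem : ∀ χ : IrrCharacter G, χ ∈ B → Star.trL hM (χ : G → ℂ) j₀ = 1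
  trL_notMem : ∀ χ : IrrCharacter G, χ ∉ B → Star.trL hM (χ : G → ℂ) j₀ = 0
  reg : ∀ χ : IrrCharacter G, χ ∈ B → ∀ ψ : IrrCharacter G, ψ ∈ B → ∀ y : G,
    ¬ p ∣ orderOf y → (χ : G → ℂ) y = (ψ : G → ℂ) y

theorem exists_frame (hB : IsPBlock M B) {d : ℕ}
    (hdeg : ∀ χ : IrrCharacter G, χ ∈ B → charDegree (χ : G → ℂ) = d) :
    Nonempty (Frame (hM := hM) hB d) := by
  classical
  have := Fintype.ofFinite G
  set e := bL hM hB with he
  obtain ⟨P, hP, horth, hsum⟩ := Star.exists_decomp (hM := hM) (fixed_bot e) (bL_mul_self hM hB)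
  have hidem : ∀ q ∈ P, q * q = q := fun q hq => (hP q hq).1.2.1
  have hcl : ∀ χ : IrrCharacter G, IsClassFunction G (χ : G → ℂ) := fun χ => Blocks.irr_class χ
  have hd0 : 0 < d := by
    obtain ⟨χ, hχ⟩ := isPBlock_nonempty hM hB
    exact hdeg χ hχ ▸ charDegree_pos χ
  -- the simple representation of each idempotent
  have hsimp : ∀ q ∈ P, ∃ s : SimpR hM G, InB hM B s ∧ rkS hM s q = 1 ∧
      ∀ t, t ≠ s → rkS hM t q = 0 := fun q hq => exists_rkS_prim hB (hP q hq).1 (hP q hq).2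
  obtain ⟨j₀, hj₀⟩ : P.Nonempty := by
    rw [Finset.nonempty_iff_ne_empty]
    intro h
    rw [h, Finset.sum_empty] at hsum
    obtain ⟨χ, hχ⟩ := isPBlock_nonempty hM hB
    have h1 := (trL_bL hM hB χ).1 hχ
    rw [← he, ← hsum, trL_zero, hdeg χ hχ, eq_comm, Nat.cast_eq_zero] at h1
    omega
  haveI : Nonempty (SimpR hM G) := ⟨(hsimp j₀ hj₀).choose⟩
  choose! σ hσB hσ1 hσ0 using hsimp
  choose! dn hdn0 hdn hdny using fun (χ : IrrCharacter G) (hχ : χ ∈ B) =>
    BrauerChar.exists_decomp (hM := hM) hB hχ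
  have htr : ∀ χ ∈ B, ∀ q ∈ P, Star.trL hM (χ : G → ℂ) q = (dn χ (σ q) : ℂ) := by
    intro χ hχ q hq
    rw [hdn χ hχ q (hidem q hq), Finset.sum_eq_single (σ q)]
    · rw [hσ1 q hq, Nat.cast_one, mul_one]
    · intro t _ ht; rw [hσ0 q hq t ht, Nat.cast_zero, mul_zero]
    · exact fun h => absurd (Finset.mem_univ _) h
  have hnat : ∀ χ : IrrCharacter G, ∀ q ∈ P, ∃ n : ℕ, Star.trL hM (χ : G → ℂ) q = n := by
    intro χ q hq
    obtain ⟨n, hn⟩ := Star.exists_nat_tr (Char.IsIrrCharacter.isCharacter χ.2)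
      (z := Star.inc hM q) (by rw [← map_mul, hidem q hq])
    exact ⟨n, hn⟩
  choose! n hn using hnat
  have hnsum : ∀ χ ∈ B, ∑ q ∈ P, n χ q = d := by
    intro χ hχ
    apply Nat.cast_injective (R := ℂ)
    rw [Nat.cast_sum, ← Finset.sum_congr rfl (hn χ), ← trL_sum, hsum, (trL_bL hM hB χ).1 hχ,
      hdeg χ hχ]
  have hnconst : ∀ χ ∈ B, ∀ q ∈ P, ∀ r ∈ P, σ q = σ r → n χ q = n χ r := by
    intro χ hχ q hq r hr h
    apply Nat.cast_injective (R := ℂ)
    rw [← hn χ q hq, ← hn χ r hr, htr χ hχ q hq, htr χ hχ r hr, h]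
  -- the degree divides the size of every class
  have hclass : ∀ s : SimpR hM G, InB hM B s → d ∣ (P.filter fun q => σ q = s).card := by
    intro s hs
    obtain ⟨m, hm⟩ := exists_brChar_eq (hM := hM) hB hs
    have := Fintype.ofFinite (IrrCharacter G)
    set T := Finset.univ.filter (fun χ : IrrCharacter G => χ ∈ B) with hT
    have hmem : ∀ {χ : IrrCharacter G}, χ ∈ T ↔ χ ∈ B := fun {χ} => by simp [T]
    have hfin : ∀ f : IrrCharacter G → ℂ, ∑ᶠ χ ∈ B, f χ = ∑ χ ∈ T, f χ := by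
      intro f
      rw [finsum_mem_eq_sum_of_inter_support_eq]
      ext; simp [T]
    have hco : (fun t => ∑ χ ∈ T, (m χ : ℂ) * (dn χ t : ℂ)) = fun t => if t = s then 1 else 0 := by
      refine coeff_unique (hM := hM) fun y hy => ?_
      simp only [ite_mul, one_mul, zero_mul, Finset.sum_ite_eq', Finset.mem_univ, if_true]
      rw [hm y hy, hfin]
      simp only [Finset.sum_mul]
      rw [Finset.sum_comm]
      refine Finset.sum_congr rfl fun χ hχ => ?_
      rw [hdny χ (hmem.1 hχ) y hy, Finset.mul_sum]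
      exact Finset.sum_congr rfl fun t _ => by ring
    have h2 : ((P.filter fun q => σ q = s).card : ℂ) = (((d : ℤ) * ∑ χ ∈ T, m χ : ℤ) : ℂ) := by
      rw [Finset.natCast_card_filter]
      have h1 : ∀ q ∈ P, (if σ q = s then (1 : ℂ) else 0) =
          ∑ χ ∈ T, (m χ : ℂ) * Star.trL hM (χ : G → ℂ) q := by
        intro q hq
        rw [Finset.sum_congr rfl fun χ hχ => by rw [htr χ (hmem.1 hχ) q hq]]
        exact (congrFun hco (σ q)).symm
      rw [Finset.sum_congr rfl h1, Finset.sum_comm]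
      push_cast
      rw [Finset.mul_sum]
      refine Finset.sum_congr rfl fun χ hχ => ?_
      rw [← Finset.mul_sum, ← trL_sum, hsum, (trL_bL hM hB χ).1 (hmem.1 hχ), hdeg χ (hmem.1 hχ)]
      ring
    have h3 : (((P.filter fun q => σ q = s).card : ℕ) : ℤ) = (d : ℤ) * ∑ χ ∈ T, m χ := by
      exact_mod_cast h2
    exact Int.natCast_dvd_natCast.1 ⟨_, h3⟩
  -- a character meets exactly one class, with trace one
  have hone : ∀ χ ∈ B, ∀ q ∈ P, n χ q ≠ 0 →
      n χ q = 1 ∧ ∀ r ∈ P, σ r ≠ σ q → n χ r = 0 := by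
    intro χ hχ q hq hne
    set cls := P.filter fun r => σ r = σ q with hcls
    have hqc : q ∈ cls := Finset.mem_filter.2 ⟨hq, rfl⟩
    have hc : d ≤ cls.card := Nat.le_of_dvd (Finset.card_pos.2 ⟨q, hqc⟩) (hclass _ (hσB q hq))
    have h1 : ∑ r ∈ cls, n χ r = cls.card * n χ q := by
      rw [Finset.sum_congr rfl fun r hr => hnconst χ hχ r (Finset.mem_filter.1 hr).1 q hq
        (Finset.mem_filter.1 hr).2, Finset.sum_const, smul_eq_mul]
    have h2 := Finset.sum_sdiff (s₁ := cls) (s₂ := P) (f := n χ) (Finset.filter_subset _ _)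
    rw [hnsum χ hχ, h1] at h2
    have hpos : 1 ≤ n χ q := Nat.one_le_iff_ne_zero.2 hne
    have h3 : cls.card * 1 ≤ cls.card * n χ q := Nat.mul_le_mul_left _ hpos
    have h4 : n χ q = 1 := by
      have h5 : cls.card * n χ q ≤ cls.card * 1 := by omega
      exact le_antisymm (Nat.le_of_mul_le_mul_left h5 (by omega)) hpos
    refine ⟨h4, fun r hr hne' => ?_⟩
    rw [h4] at h2
    have h6 : ∑ x ∈ P \ cls, n χ x = 0 := by omega
    exact Finset.sum_eq_zero_iff.1 h6 r (Finset.mem_sdiff.2 ⟨hr, fun h => hne' (Finset.mem_filter.1 h).2⟩)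
  -- the class of `j₀` is everything
  set cls₀ := P.filter fun r => σ r = σ j₀ with hcls₀
  set e₁ := ∑ q ∈ cls₀, q with he₁
  have hsub : cls₀ ⊆ P := Finset.filter_subset _ _
  have he₁e₁ : e₁ * e₁ = e₁ := by
    rw [he₁, Finset.sum_mul]
    refine Finset.sum_congr rfl fun q hq => ?_
    rw [Finset.mul_sum, Finset.sum_eq_single q (fun r hr hne => horth q (hsub hq) r (hsub hr) hne.symm)
      (fun h => absurd hq h), hidem q (hsub hq)]
  have he₁e : Star.InCorner e e₁ := by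
    constructor
    · rw [he₁, Finset.mul_sum]; exact Finset.sum_congr rfl fun q hq => (hP q (hsub hq)).2.1
    · rw [he₁, Finset.sum_mul]; exact Finset.sum_congr rfl fun q hq => (hP q (hsub hq)).2.2
  have hj₀c : j₀ ∈ cls₀ := Finset.mem_filter.2 ⟨hj₀, rfl⟩
  have hscal : ∀ χ : IrrCharacter G,
      (∀ w, Star.trL hM (χ : G → ℂ) (e₁ * w) = 0) ∨
      (n χ j₀ ≠ 0 ∧ χ ∈ B ∧ ∀ w, Star.trL hM (χ : G → ℂ) (e₁ * w) =
        Star.trL hM (χ : G → ℂ) (e * w)) := by
    intro χ
    have hch := Char.IsIrrCharacter.isCharacter χ.2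
    by_cases hχ : χ ∈ B
    · by_cases h0 : n χ j₀ = 0
      · refine Or.inl fun w => trL_mul_eq_zero hM hch he₁e₁ ?_ w
        rw [he₁, trL_sum]
        refine Finset.sum_eq_zero fun q hq => ?_
        rw [hn χ q (hsub hq), hnconst χ hχ q (hsub hq) j₀ hj₀ (Finset.mem_filter.1 hq).2, h0,
          Nat.cast_zero]
      · refine Or.inr ⟨h0, hχ, fun w => ?_⟩
        refine (sub_eq_zero.1 ?_).symm
        rw [← trL_sub, ← sub_mul]
        refine trL_mul_eq_zero hM hch ?_ ?_ w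
        · rw [sub_mul, mul_sub, mul_sub, bL_mul_self hM hB, he₁e₁, he₁e.1, he₁e.2, sub_self,
            sub_zero]
        · rw [trL_sub, sub_eq_zero, ← hsum, he₁, trL_sum, trL_sum]
          refine (Finset.sum_subset hsub fun q hq hqc => ?_).symm
          rw [hn χ q hq, (hone χ hχ j₀ hj₀ h0).2 q hq fun h => hqc (Finset.mem_filter.2 ⟨hq, h⟩),
            Nat.cast_zero]
    · exact Or.inl fun w => trL_mul_eq_zero hM hch he₁e₁ (trL_corner_eq_zero hB he₁e hχ) w
  have hcentral : ∀ g : G, Star.el hM g * e₁ = e₁ * Star.el hM g := by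
    intro g
    refine sub_eq_zero.1 (eq_zero_of_trL hM fun χ a => ?_)
    rw [sub_mul, trL_sub, sub_eq_zero, mul_assoc,
      Star.trL_mul_comm hM (hcl χ) (Star.el hM g), mul_assoc, mul_assoc]
    rcases hscal χ with h | ⟨-, -, h⟩
    · rw [h, h]
    · rw [h, h, ← mul_assoc, Star.trL_mul_comm hM (hcl χ) _ (Star.el hM g), ← mul_assoc,
        ← mul_assoc, el_mul_bL hM hB g]
  have hfix : Fixed ⊤ (Star.rd hM e₁) := by
    intro u _
    have h := congrArg (Star.rd hM) (hcentral u)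
    rw [map_mul, map_mul, rd_el] at h
    ext x
    have h' := congrArg (fun z : MonoidAlgebra (Res M) G => z.coeff (x * u)) h
    simp only [MonoidAlgebra.coeff_single_mul_apply, MonoidAlgebra.coeff_mul_single_apply,
      one_mul, mul_one, mul_inv_cancel_right, ← mul_assoc] at h'
    rw [coeff_cj]
    exact h'
  have hall : ∀ χ ∈ B, n χ j₀ ≠ 0 := by
    obtain ⟨ξ, hξ⟩ := isPBlock_nonempty hM hB
    have hblk : Star.rd hM e₁ * blk M B = Star.rd hM e₁ := by
      rw [← rd_bL hM hB, ← map_mul, ← he, he₁e.2]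
    rcases mul_blk_cases hM hfix (by rw [← map_mul, he₁e₁]) hB hξ with ⟨-, h⟩ | ⟨-, h⟩
    · rw [hblk, ← rd_bL hM hB, ← he, ← sub_eq_zero, ← map_sub] at h
      have h' : Star.rd hM (e - e₁) = 0 := by rw [← neg_sub e₁ e, map_neg, h, neg_zero]
      have h0 := Star.eq_zero_of_rd_eq_zero hM (by
        rw [sub_mul, mul_sub, mul_sub, bL_mul_self hM hB, he₁e₁, he₁e.1, he₁e.2, sub_self,
          sub_zero]) h'
      intro χ hχ hz
      have h1 := (trL_bL hM hB χ).1 hχ
      rw [← he, sub_eq_zero.1 h0, he₁, trL_sum, Finset.sum_eq_zero fun q hq => ?_, hdeg χ hχ,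
        eq_comm, Nat.cast_eq_zero] at h1
      · omega
      · rw [hn χ q (hsub hq), hnconst χ hχ q (hsub hq) j₀ hj₀ (Finset.mem_filter.1 hq).2, hz,
          Nat.cast_zero]
    · rw [hblk] at h
      have h0 := Star.eq_zero_of_rd_eq_zero hM he₁e₁ h
      refine absurd ?_ (hP j₀ hj₀).1.2.2.1
      rw [← hidem j₀ hj₀, ← zero_mul j₀, ← h0, he₁, Finset.sum_mul,
        Finset.sum_eq_single j₀ (fun q hq hne => horth q (hsub hq) j₀ hj₀ hne) (fun h => absurd hj₀c h)]
  have hσ : ∀ q ∈ P, σ q = σ j₀ := by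
    intro q hq
    by_contra hne
    refine (hP q hq).1.2.2.1 (eq_zero_of_trL_idem hM (hidem q hq) fun χ => ?_)
    by_cases hχ : χ ∈ B
    · rw [hn χ q hq, (hone χ hχ j₀ hj₀ (hall χ hχ)).2 q hq hne, Nat.cast_zero]
    · exact trL_corner_eq_zero hB (hP q hq).2 hχ
  have hn1 : ∀ χ ∈ B, ∀ q ∈ P, n χ q = 1 := fun χ hχ q hq => by
    rw [hnconst χ hχ q hq j₀ hj₀ (hσ q hq), (hone χ hχ j₀ hj₀ (hall χ hχ)).1]
  have hcard : P.card = d := by
    obtain ⟨χ, hχ⟩ := isPBlock_nonempty hM hB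
    rw [← hnsum χ hχ, Finset.sum_congr rfl (hn1 χ hχ), Finset.sum_const, smul_eq_mul, mul_one]
  -- the only simple representation of the block
  have honly : ∀ t : SimpR hM G, InB hM B t → t = σ j₀ := by
    intro t ht
    letI := ModRep.resField hM
    by_contra hne
    have h0 : ∀ q ∈ P, (sRep t).asAlgebraHom (Star.rd hM q) = 0 := fun q hq =>
      LinearMap.range_eq_bot.1 (Submodule.finrank_eq_zero.1 (hσ0 q hq t (hσ q hq ▸ hne)))
    have h1 : (sRep t).asAlgebraHom (blk M B) = 0 := by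
      rw [← rd_bL hM hB, ← he, ← hsum, map_sum, map_sum]
      exact Finset.sum_eq_zero h0
    haveI : Nontrivial (Module.End (Res M) (Fin (sdim t) → Res M)) := by
      haveI : Nonempty (Fin (sdim t)) := ⟨⟨0, sdim_pos t⟩⟩
      infer_instance
    rw [InB, h1] at ht
    exact zero_ne_one ht
  have hval : ∀ χ ∈ B, ∀ y : G, ¬ p ∣ orderOf y → (χ : G → ℂ) y = brChar hM (σ j₀) y := by
    intro χ hχ y hy
    rw [hdny χ hχ y hy, Finset.sum_eq_single (σ j₀)]
    · rw [← htr χ hχ j₀ hj₀, hn χ j₀ hj₀, hn1 χ hχ j₀ hj₀, Nat.cast_one, one_mul]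
    · intro t _ ht
      rw [hdn0 χ hχ t fun h => ht (honly t h), Int.cast_zero, zero_mul]
    · exact fun h => absurd (Finset.mem_univ _) h
  -- the matrix units
  have hrk : ∀ q ∈ P, rkS hM (σ j₀) q ≠ 0 := fun q hq => by
    rw [← hσ q hq, hσ1 q hq]; exact one_ne_zero
  choose! a b ha1 ha2 hb1 hb2 hab hba using fun q (hq : q ∈ P) =>
    assoc_of_rkS (hP j₀ hj₀).1 (hP q hq).1 (hrk j₀ hj₀) (hrk q hq)
  exact ⟨{
    P := P, j₀ := j₀, A := a, A' := b, mem := hj₀, idem := hidem j₀ hj₀, card := hcard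
    sum := hsum, j_A := ha1, A_q := ha2, q_A' := hb1, A'_j := hb2, A_A' := hab, A'_A := hba
    orth := horth
    trL_mem := fun χ hχ => by rw [hn χ j₀ hj₀, hn1 χ hχ j₀ hj₀, Nat.cast_one]
    trL_notMem := fun χ hχ => trL_corner_eq_zero hB (hP j₀ hj₀).2 hχ
    reg := fun χ hχ ψ hψ y hy => (hval χ hχ y hy).trans (hval ψ hψ y hy).symm }⟩

end Cfsg.Agent.AbelianEqualDegree
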