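import Cfsg.Agent.Lib.Blocks.BrauerChar.Virtual

/-!
# Primitive idempotents against the simple representations

* `rkS_prim_le_one`: a primitive idempotent has rank at most one on every simple representation;
* `eq_of_rkS_prim`: it has rank one on at most one of them;
* `assoc_of_rkS`: two primitive idempotents with rank one on the same one are associated;
* `exists_rkS_prim`: a primitive idempotent of a block has rank one on some simple representation
  of the block, whose decomposition numbers are its traces.
-/

set_option autoImplicit false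
set_option linter.unusedSectionVars false
set_option linter.style.haveILetI false
set_option maxHeartbeats 1000000
set_option synthInstance.maxHeartbeats 200000

namespace Cfsg.Agent.AbelianEqualDegree

open Cfsg Cfsg.Agent.Blocks Cfsg.Agent.BrauerPairs Cfsg.Agent.EqualDegree Cfsg.Agent.BrauerChar

variable {G : Type*} [Group G] [Finite G] {p : ℕ} [Fact p.Prime] {M : Ideal AlgInt}
  {hM : IsPModular p M}

theorem fixed_bot {k : Type*} [CommRing k] (a : MonoidAlgebra k G) :
    Fixed (⊥ : Subgroup G) a := fun u hu => by rw [Subgroup.mem_bot.1 hu, cj_one]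

theorem rd_el (g : G) : Star.rd hM (Star.el hM g) = MonoidAlgebra.single g 1 := by
  rw [Star.el, Star.rd, MonoidAlgebra.mapRingHom_single, map_one]

/-- A rank one operator. -/
noncomputable def rankOne {k V : Type*} [Field k] [AddCommGroup V] [Module k V]
    (v : V) (lam : Module.Dual k V) : Module.End k V := lam.smulRight v

theorem rankOne_apply {k V : Type*} [Field k] [AddCommGroup V] [Module k V] (v w : V)
    (lam : Module.Dual k V) : rankOne v lam w = lam w • v := rfl

/-- On a simple representation the corner of a primitive idempotent is scalar plus nilpotent. -/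
theorem corner_scalar {j : Star.Loc hM G} (hj : Star.IsPrim (hM := hM) ⊥ j) (s : SimpR hM G)
    (x : Star.Loc hM G) :
    letI := ModRep.resField hM
    IsNilpotent ((sRep s).asAlgebraHom (Star.rd hM (j * x * j)) -
      Star.tau hM j x • (sRep s).asAlgebraHom (Star.rd hM j)) := by
  letI := ModRep.resField hM
  have h := (Star.tau_spec hM hj (fixed_bot x)).map (sRep s).asAlgebraHom
  rwa [map_sub, map_smul] at h

theorem exists_dual_one {k V : Type*} [Field k] [AddCommGroup V] [Module k V] {v : V} (hv : v ≠ 0) :
    ∃ lam : Module.Dual k V, lam v = 1 :=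
  Module.Projective.exists_dual_eq_one k hv

theorem rkS_prim_le_one {j : Star.Loc hM G} (hj : Star.IsPrim (hM := hM) ⊥ j) (s : SimpR hM G) :
    rkS hM s j ≤ 1 := by
  letI := ModRep.resField hM
  haveI := ModRep.isAlgClosed_res hM
  set J := (sRep s).asAlgebraHom (Star.rd hM j) with hJ
  have hJJ : J * J = J := by rw [hJ, ← map_mul, ← map_mul, hj.2.1]
  show Module.finrank (Res M) (LinearMap.range J) ≤ 1
  by_cases h0 : J = 0
  · rw [h0, LinearMap.range_zero, finrank_bot]; exact zero_le_one
  obtain ⟨v₀, hv₀⟩ : ∃ v₀, J v₀ ≠ 0 := by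
    by_contra h
    push Not at h
    exact h0 (LinearMap.ext h)
  set v := J v₀ with hv
  have hJv : J v = v := by rw [hv, ← Module.End.mul_apply, hJJ]
  obtain ⟨lam, hlam⟩ : ∃ lam : Module.Dual (Res M) (Fin (sdim s) → Res M), lam v = 1 :=
    exists_dual_one hv₀
  set E := rankOne v (lam.comp J) with hE
  have hEJ : J * E * J = E := by
    refine LinearMap.ext fun w => ?_
    simp only [Module.End.mul_apply, hE, rankOne_apply, LinearMap.comp_apply, map_smul, hJv]
    rw [← Module.End.mul_apply J J, hJJ]
  obtain ⟨r, hr⟩ := CycDefect.exists_asAlgebraHom_eq (sRep s) E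
  obtain ⟨n, hn⟩ := corner_scalar hj s (Star.liftEl hM r)
  rw [map_mul, map_mul, map_mul, map_mul, Star.rd_liftEl, hr, ← hJ, hEJ] at hn
  set c := Star.tau hM j (Star.liftEl hM r)
  have hEv : (E - c • J) v = (1 - c) • v := by
    simp only [LinearMap.sub_apply, LinearMap.smul_apply, hE, rankOne_apply, LinearMap.comp_apply,
      hJv, hlam, sub_smul, one_smul]
  have hpow : ∀ m : ℕ, ((E - c • J) ^ m) v = (1 - c) ^ m • v := by
    intro m
    induction m with
    | zero => simp
    | succ m ih => rw [pow_succ', Module.End.mul_apply, ih, map_smul, hEv, smul_smul, pow_succ]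
  have hc : c = 1 := by
    have h := hpow n
    rw [hn, LinearMap.zero_apply, eq_comm, smul_eq_zero] at h
    exact (sub_eq_zero.1 (eq_zero_of_pow_eq_zero (h.resolve_right hv₀))).symm
  have hEE : E * E = E := by
    refine LinearMap.ext fun w => ?_
    simp only [Module.End.mul_apply, hE, rankOne_apply, LinearMap.comp_apply, map_smul, hJv, hlam]
    exact congrArg _ (one_smul (Res M) v)
  have hJE : J * E = E := by
    refine LinearMap.ext fun w => ?_
    simp only [Module.End.mul_apply, hE, rankOne_apply, map_smul, hJv]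
  have hEJ' : E * J = E := by rw [← hEJ, mul_assoc, hJJ]
  rw [hc, one_smul] at hn
  have hidem : (J - E) * (J - E) = J - E := by
    rw [sub_mul, mul_sub, mul_sub, hJJ, hEE, hJE, hEJ', sub_self, sub_zero]
  have hnil : IsNilpotent (J - E) := by
    have h : IsNilpotent (-(E - J)) := IsNilpotent.neg ⟨n, hn⟩
    rwa [neg_sub] at h
  have hzero : J - E = 0 := IsIdempotentElem.eq_zero_of_isNilpotent hidem hnil
  rw [sub_eq_zero.1 hzero]
  calc Module.finrank (Res M) (LinearMap.range E)
      ≤ Module.finrank (Res M) (Submodule.span (Res M) ({v} : Set _)) := by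
        refine Submodule.finrank_mono ?_
        rintro _ ⟨w, rfl⟩
        rw [hE, rankOne_apply]
        exact Submodule.smul_mem _ _ (Submodule.mem_span_singleton_self v)
    _ ≤ 1 := (finrank_span_singleton hv₀).le

theorem exists_fixed_vector {j : Star.Loc hM G} (hjj : j * j = j) {s : SimpR hM G}
    (h : rkS hM s j ≠ 0) :
    letI := ModRep.resField hM
    ∃ (v : Fin (sdim s) → Res M) (lam : Module.Dual (Res M) (Fin (sdim s) → Res M)),
      (sRep s).asAlgebraHom (Star.rd hM j) v = v ∧ lam v = 1 := by
  letI := ModRep.resField hM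
  set J := (sRep s).asAlgebraHom (Star.rd hM j) with hJ
  obtain ⟨v₀, hv₀⟩ : ∃ v₀, J v₀ ≠ 0 := by
    by_contra h'
    push Not at h'
    refine h ?_
    show Module.finrank (Res M) (LinearMap.range J) = 0
    rw [show J = 0 from LinearMap.ext h', LinearMap.range_zero, finrank_bot]
  obtain ⟨f, hf⟩ := exists_dual_one (k := Res M) hv₀
  refine ⟨J v₀, f, ?_, hf⟩
  rw [← Module.End.mul_apply, hJ, ← map_mul, ← map_mul, hjj]

/-- Two primitive idempotents with rank one on the same simple representation are associated. -/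
theorem assoc_of_rkS {j m : Star.Loc hM G} (hj : Star.IsPrim (hM := hM) ⊥ j)
    (hm : Star.IsPrim (hM := hM) ⊥ m) {s : SimpR hM G} (hjs : rkS hM s j ≠ 0)
    (hms : rkS hM s m ≠ 0) :
    ∃ a b : Star.Loc hM G, j * a = a ∧ a * m = a ∧ m * b = b ∧ b * j = b ∧ a * b = j ∧ b * a = m := by
  letI := ModRep.resField hM
  haveI := ModRep.isAlgClosed_res hM
  obtain ⟨v, lam, hv, hlam⟩ := exists_fixed_vector hj.2.1 hjs
  obtain ⟨w, mu, hw, hmu⟩ := exists_fixed_vector hm.2.1 hms
  obtain ⟨r, hr⟩ := CycDefect.exists_asAlgebraHom_eq (sRep s) (rankOne v mu)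
  obtain ⟨r', hr'⟩ := CycDefect.exists_asAlgebraHom_eq (sRep s) (rankOne w lam)
  have ha1 : j * (j * Star.liftEl hM r * m) = j * Star.liftEl hM r * m := by
    rw [← mul_assoc, ← mul_assoc, hj.2.1]
  have ha2 : j * Star.liftEl hM r * m * m = j * Star.liftEl hM r * m := by
    rw [mul_assoc, hm.2.1]
  have hb1 : m * (m * Star.liftEl hM r' * j) = m * Star.liftEl hM r' * j := by
    rw [← mul_assoc, ← mul_assoc, hm.2.1]
  have hb2 : m * Star.liftEl hM r' * j * j = m * Star.liftEl hM r' * j := by
    rw [mul_assoc, hj.2.1]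
  set a := j * Star.liftEl hM r * m
  set b := m * Star.liftEl hM r' * j
  have hval : (sRep s).asAlgebraHom (Star.rd hM (a * b)) v = v := by
    simp only [a, b, map_mul, Star.rd_liftEl, Module.End.mul_apply, hr, hr', rankOne_apply, hv,
      hlam, one_smul, hw, hmu]
  have hne : Star.tau hM j (a * b) ≠ 0 := by
    intro h0
    obtain ⟨n, hn⟩ := corner_scalar hj s (a * b)
    rw [show j * (a * b) * j = a * b by rw [mul_assoc, mul_assoc, hb2, ← mul_assoc, ha1],
      h0] at hn
    have hn' : (sRep s).asAlgebraHom (Star.rd hM (a * b)) ^ n = 0 := by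
      rwa [zero_smul (Res M) ((sRep s).asAlgebraHom (Star.rd hM j)), sub_zero] at hn
    have hv0 : v ≠ 0 := fun h => by rw [h, map_zero] at hlam; exact zero_ne_one hlam
    refine hv0 ?_
    have hpow : ∀ k : ℕ, ((sRep s).asAlgebraHom (Star.rd hM (a * b)) ^ k) v = v := by
      intro k
      induction k with
      | zero => simp
      | succ k ih => rw [pow_succ, Module.End.mul_apply, hval, ih]
    rw [← hpow n, hn', LinearMap.zero_apply]
  obtain ⟨b', -, h1, h2, h3, h4⟩ := Star.exists_assoc_of_tau hM hj hm (fixed_bot a) (fixed_bot b)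
    ha1 ha2 hb1 hb2 hne
  exact ⟨a, b', ha1, ha2, h1, h2, h3, h4⟩

/-- A primitive idempotent has rank one on at most one simple representation. -/
theorem eq_of_rkS_prim {j : Star.Loc hM G} (hj : Star.IsPrim (hM := hM) ⊥ j) {s t : SimpR hM G}
    (hs : rkS hM s j ≠ 0) (ht : rkS hM t j ≠ 0) : s = t := by
  letI := ModRep.resField hM
  haveI := ModRep.isAlgClosed_res hM
  let L : SimpR hM G → MonoidAlgebra (Res M) G → Res M := fun u x =>
    LinearMap.trace (Res M) _ ((sRep u).asAlgebraHom x)
  set J := Star.rd hM j
  have hJJ : J * J = J := by simp only [J, ← map_mul, hj.2.1]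
  have hL : ∀ u, rkS hM u j ≠ 0 → ∀ x, L u (x * J) = Star.tau hM j (Star.liftEl hM x) := by
    intro u hu x
    have h1 : rkS hM u j = 1 := le_antisymm (rkS_prim_le_one hj u) (Nat.one_le_iff_ne_zero.2 hu)
    have h := (LinearMap.isNilpotent_trace_of_isNilpotent
      (corner_scalar hj u (Star.liftEl hM x))).eq_zero
    simp only [map_sub, map_smul, map_mul, Star.rd_liftEl] at h
    rw [sub_eq_zero,
      trace_idem (sRep u) (a := J) hJJ, show rk (sRep u) J = 1 from h1, Nat.cast_one, smul_eq_mul,
      mul_one] at h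
    rw [← h]
    show LinearMap.trace _ _ _ = _
    rw [LinearMap.trace_mul_comm _ ((sRep u).asAlgebraHom (Star.rd hM j) * (sRep u).asAlgebraHom x),
      ← mul_assoc, ← map_mul _ (Star.rd hM j) (Star.rd hM j), hJJ,
      LinearMap.trace_mul_comm, ← map_mul]
  have hagree : ∀ (w : MonoidAlgebra (Res M) G), (∃ (ι : Type) (_ : Fintype ι)
      (x y : ι → MonoidAlgebra (Res M) G), w = ∑ i, x i * J * y i) → L s w = L t w := by
    rintro _ ⟨ι, _, x, y, rfl⟩
    simp only [L, map_sum]
    refine Finset.sum_congr rfl fun i _ => ?_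
    have e : ∀ u, rkS hM u j ≠ 0 → L u (x i * J * y i) =
        Star.tau hM j (Star.liftEl hM (y i * x i)) := fun u hu => by
      rw [← hL u hu (y i * x i)]
      show LinearMap.trace _ _ _ = LinearMap.trace _ _ _
      rw [map_mul, LinearMap.trace_mul_comm, ← map_mul, mul_assoc]
    exact (e s hs).trans (e t ht).symm
  have hunit : ∀ u, rkS hM u j ≠ 0 → ∃ (x y : Fin (sdim u) → MonoidAlgebra (Res M) G),
      (sRep u).asAlgebraHom (∑ i, x i * J * y i) = 1 := by
    intro u hu
    obtain ⟨v, lam, hv, hlam⟩ := exists_fixed_vector hj.2.1 hu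
    choose x hx using fun i => CycDefect.exists_asAlgebraHom_eq (sRep u)
      (rankOne (Pi.single i (1 : Res M)) lam)
    choose y hy using fun i => CycDefect.exists_asAlgebraHom_eq (sRep u)
      (rankOne v (LinearMap.proj i))
    refine ⟨x, y, LinearMap.ext fun z => ?_⟩
    simp only [map_sum, map_mul, hx, hy, LinearMap.sum_apply, Module.End.mul_apply, rankOne_apply,
      LinearMap.proj_apply, map_smul, Module.End.one_apply]
    funext k
    rw [Finset.sum_apply, Finset.sum_eq_single k]
    · simp [J, hlam, hv]
    · intro i _ hi; simp [Ne.symm hi]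
    · simp
  obtain ⟨xs, ys, hes⟩ := hunit s hs
  obtain ⟨xt, yt, het⟩ := hunit t ht
  set es := ∑ i, xs i * J * ys i with hes'
  set et := ∑ i, xt i * J * yt i with het'
  have key : ∀ w, L s w = L t w := by
    intro w
    have h1 : L s (w * es * et) = L t (w * es * et) :=
      hagree _ ⟨Fin (sdim t), inferInstance, fun i => w * es * xt i, yt,
        by simp only [het', Finset.mul_sum, mul_assoc]⟩
    have h2 : L s (w * es) = L t (w * es) :=
      hagree _ ⟨Fin (sdim s), inferInstance, fun i => w * xs i, ys,
        by simp only [hes', Finset.mul_sum, mul_assoc]⟩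
    have h3 : L s (w * et) = L t (w * et) :=
      hagree _ ⟨Fin (sdim t), inferInstance, fun i => w * xt i, yt,
        by simp only [het', Finset.mul_sum, mul_assoc]⟩
    simp only [L, map_mul, hes, het, mul_one] at h1 h2 h3 ⊢
    rw [h2, ← h1, h3]
  refine Subtype.ext (funext fun g => ?_)
  have h := key (MonoidAlgebra.single g 1)
  simp only [L, Representation.asAlgebraHom_single, one_smul, trace_sRep] at h
  exact h

end Cfsg.Agent.AbelianEqualDegree
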