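import Cfsg.Agent.Lib.BlocksNormal.CentralizedDefect
import Cfsg.Agent.Lib.BlocksNormal.CentralDefect
import Cfsg.Agent.Lib.BrauerPairs.BlockIdem

/-!
# The centre of a block with central defect group

`exists_coeff_of_central`: if the defect group `P` of the block `b` is central, every central
element of the block algebra modulo `M` is a combination of the `u * blk b` with `u` in `P`.
-/

set_option autoImplicit false
set_option linter.unusedSectionVars false
set_option linter.style.haveILetI false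
set_option maxHeartbeats 1000000

open scoped ComplexConjugate

namespace Cfsg.Agent.AbelianEqualDegree

open Cfsg Cfsg.Agent.Blocks Cfsg.Agent.BlocksNormal Cfsg.Agent.BrauerPairs

variable {G : Type*} [Group G] [Fintype G] {p : ℕ} [Fact p.Prime] {M : Ideal AlgInt} {P : Subgroup G}
  {b : Set (IrrCharacter G)}

theorem charDegree_eq_of_central (hM : IsPModular p M) (hP : IsPGroup p P)
    (hPZ : P ≤ Subgroup.center G) (hb : IsPBlock M b) (hD : IsDefectGroup p M b P)
    {θ ξ : IrrCharacter G} (hθb : θ ∈ b) (hθ : ∀ x ∈ P, (θ : G → ℂ) x = (θ : G → ℂ) 1)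
    (hξ : ξ ∈ b) : (ξ : G → ℂ) 1 = (θ : G → ℂ) 1 := by
  classical
  haveI := normal_of_central hPZ
  have := Fintype.ofFinite P
  have hG : P ⊔ Subgroup.centralizer (P : Set G) = ⊤ :=
    eq_top_iff.2 fun x _ => Subgroup.mem_sup_right (central_mem_centralizer hPZ x)
  have h := norm_split hM hP hG hb hD hθb hθ hξ
  have hR := card_regular_norm hM hP hG hb hD hθb hθ
  have hval : ∀ u : P, (ξ : G → ℂ) (u : G) * conj ((ξ : G → ℂ) (u : G)) =
      (ξ : G → ℂ) 1 * (ξ : G → ℂ) 1 := by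
    intro u
    rw [← Char.IsCharacter.apply_inv (Char.IsIrrCharacter.isCharacter ξ.2),
      sum_conj_apply hG ξ u.2 (P.inv_mem u.2)]
    have e : ∀ q : P, (ξ : G → ℂ) ((q : G) * u * (q : G)⁻¹ * (u : G)⁻¹) = (ξ : G → ℂ) 1 := fun q => by
      rw [Subgroup.mem_center_iff.1 (hPZ u.2) q]; simp
    rw [Finset.sum_congr rfl fun q _ => e q, Finset.sum_const, Finset.card_univ, nsmul_eq_mul,
      ← Nat.card_eq_fintype_card]
    field_simp [show (Nat.card P : ℂ) ≠ 0 from Nat.cast_ne_zero.2 Nat.card_pos.ne']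
  rw [Finset.sum_congr rfl fun u _ => hval u, Finset.sum_const, Finset.card_univ, nsmul_eq_mul,
    ← Nat.card_eq_fintype_card] at h
  have h2 : (ξ : G → ℂ) 1 * (ξ : G → ℂ) 1 = (θ : G → ℂ) 1 * (θ : G → ℂ) 1 := by
    rw [← hR] at h
    have hne : (Nat.card P : ℂ) * ∑ x ∈ Finset.univ.filter (fun x : G => ¬ p ∣ orderOf x),
        (θ : G → ℂ) x * conj ((θ : G → ℂ) x) ≠ 0 := by rw [hR]; exact card_ne_zero_C
    exact mul_left_cancel₀ hne (by linear_combination h)
  rw [← charDegree_cast, ← charDegree_cast] at h2 ⊢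
  rw [← Nat.cast_mul, ← Nat.cast_mul, Nat.cast_inj] at h2
  rw [Nat.cast_inj]
  exact Nat.mul_self_inj.1 h2

theorem exists_coeff_of_central (hM : IsPModular p M) (hP : IsPGroup p P)
    (hPZ : P ≤ Subgroup.center G) (hb : IsPBlock M b) (hD : IsDefectGroup p M b P) [Fintype P]
    {z : MonoidAlgebra (Res M) G} (hz : Fixed ⊤ z) (hzb : z * blk M b = z) :
    ∃ a : P → Res M, ∀ x, z.coeff x = ∑ u : P, a u * (blk M b).coeff ((u : G)⁻¹ * x) := by
  classical
  have hp : p.Prime := Fact.out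
  haveI := normal_of_central hPZ
  have := Fintype.ofFinite (IrrCharacter G)
  have hG : P ⊔ Subgroup.centralizer (P : Set G) = ⊤ :=
    eq_top_iff.2 fun x _ => Subgroup.mem_sup_right (central_mem_centralizer hPZ x)
  obtain ⟨θ, hθb, hθ⟩ := BlocksNormal.exists_mem_trivOn hM hb P hP
  have hdeg : ∀ ξ ∈ b, (ξ : G → ℂ) 1 = (θ : G → ℂ) 1 := fun ξ hξ =>
    charDegree_eq_of_central hM hP hPZ hb hD hθb hθ hξ
  have hreg : ∀ ξ ∈ b, ∀ c : G, ¬ p ∣ orderOf c → (ξ : G → ℂ) c = (θ : G → ℂ) c := fun ξ hξ c hc =>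
    mul_right_cancel₀ (irr_one_ne_zero θ) (by
      rw [apply_regular hM hP hG hb hD hθb hθ hξ hc, hdeg ξ hξ]; ring)
  -- the degrees have the least `p`-part
  have hfac : ∀ ξ ∈ b, (charDegree (ξ : G → ℂ)).factorization p = P.index.factorization p := by
    have hsame : ∀ ξ ∈ b, charDegree (ξ : G → ℂ) = charDegree (θ : G → ℂ) := fun ξ hξ => by
      apply Nat.cast_injective (R := ℂ)
      rw [charDegree_cast, charDegree_cast, hdeg ξ hξ]
    intro ξ hξ
    set e := P.index.factorization p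
    obtain ⟨m, hm⟩ := Nat.ordProj_dvd P.index p
    have hm' : ¬ p ∣ m := by
      intro h
      have := Nat.not_dvd_ordCompl hp (Subgroup.index_ne_zero_of_finite (H := P))
      rw [show m = P.index / p ^ e from (Nat.div_eq_of_eq_mul_right (pow_pos hp.pos _) hm).symm] at h
      exact this h
    have he : p ^ e * Nat.card P * m = Nat.card G := by
      rw [mul_right_comm, ← hm, mul_comm, P.card_mul_index]
    have hlow := pow_dvd_charDegree hM hξ hD ⟨m, he.symm⟩
    obtain ⟨η, hη, hnd⟩ := exists_charDegree_not_dvd hM hb hD hm' he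
    rw [hsame η hη, ← hsame ξ hξ] at hnd
    have h1 := (hp.pow_dvd_iff_le_factorization (charDegree_pos ξ).ne').1 hlow
    have h2 : ¬ e + 1 ≤ (charDegree (ξ : G → ℂ)).factorization p := fun h =>
      hnd ((hp.pow_dvd_iff_le_factorization (charDegree_pos ξ).ne').2 h)
    omega
  set f := lift z with hf
  have hfc := isClassFunction_lift hz
  have hfR := memR_lift hM z
  set w := omegaFun f
  set f' := ofOmega (w * blockInd b) with hf'
  have hconv : f' = conv f (blockCoeff b) := by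
    rw [hf', ofOmega_mul, ofOmega_omega hfc, ← blockCoeff_eq_ofOmega]
  have hbR := Blocks.memR_blockCoeff hM hb
  have hf'R : ∀ x, MemLocalRing M (f' x) := fun x => by
    rw [hconv, conv_eq_sum]
    exact memR_sum hM _ fun y _ => memR_mul hM (hfR y) (hbR _)
  have hzf : ∀ x, z.coeff x = res M (f' x) := fun x => by
    rw [← coeff_red, hconv, red_conv hM hfR hbR, red_lift hM, ← blk, hzb]
  set T := Finset.univ.filter (fun ξ : IrrCharacter G => ξ ∈ b) with hT
  have hmem : ∀ {ξ : IrrCharacter G}, ξ ∈ T ↔ ξ ∈ b := fun {ξ} => by simp [T]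
  have hf'x : ∀ x, f' x = (Nat.card G : ℂ)⁻¹ *
      ∑ ξ ∈ T, w ξ * (ξ : G → ℂ) 1 * conj ((ξ : G → ℂ) x) := by
    intro x
    rw [hf', ofOmega_eq_sum, hT, Finset.sum_filter]
    congr 1
    refine Finset.sum_congr rfl fun ξ _ => ?_
    rw [Pi.mul_apply]
    split_ifs with h
    · rw [blockInd_of_mem h, mul_one]
    · rw [blockInd_of_notMem h]; ring
  -- the idempotent on the regular elements
  have hbc : ∀ c, ¬ p ∣ orderOf c → blockCoeff b c =
      (Nat.card G : ℂ)⁻¹ * ((Nat.card P : ℂ) * ((θ : G → ℂ) 1 * conj ((θ : G → ℂ) c))) := by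
    intro c hc
    have h1 : ¬ p ∣ orderOf (1 : G) := by rw [orderOf_one]; exact hp.not_dvd_one
    rw [← kernel_eq hM hP hG hb hD hθb hθ h1 hc, blockCoeff]
  let α : P → ℂ := fun u => ((Nat.card P : ℂ) * ((θ : G → ℂ) 1 * (θ : G → ℂ) 1))⁻¹ *
    ∑ ξ ∈ T, w ξ * (ξ : G → ℂ) 1 * conj ((ξ : G → ℂ) u)
  have hP0 : (Nat.card P : ℂ) ≠ 0 := Nat.cast_ne_zero.2 Nat.card_pos.ne'
  have hprod : ∀ (u : P) (c : G), ¬ p ∣ orderOf c → f' ((u : G) * c) = α u * blockCoeff b c := by
    intro u c hc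
    rw [hf'x, hbc c hc]
    simp only [α]
    rw [Finset.mul_sum, Finset.mul_sum, Finset.sum_mul]
    refine Finset.sum_congr rfl fun ξ hξ => ?_
    rw [apply_mul_eq hG ξ u.2 (central_mem_centralizer hPZ c), hreg ξ (hmem.1 hξ) c hc,
      hdeg ξ (hmem.1 hξ), map_div₀, map_mul,
      Char.IsCharacter.conj_apply_one (Char.IsIrrCharacter.isCharacter θ.2)]
    field_simp [irr_one_ne_zero θ, hP0, card_ne_zero_C (G := G)]
  obtain ⟨c₀, hc₀⟩ : ∃ c₀, (blk M b).coeff c₀ ≠ 0 := by
    by_contra h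
    push Not at h
    exact blk_ne_zero hM hb (MonoidAlgebra.coeff_injective (Finsupp.ext h))
  have hc₀' : ¬ MemLocalIdeal M (blockCoeff b c₀) := fun h =>
    hc₀ (by rw [blk, coeff_red]; exact (res_eq_zero_iff hM (hbR _)).2 h)
  have hc₀r := pRegular_of_blockCoeff hM hb hc₀'
  have hαR : ∀ u, MemLocalRing M (α u) := by
    intro u
    have h0 : blockCoeff b c₀ ≠ 0 := fun h => hc₀' (h ▸ memI_zero hM)
    have : α u = f' ((u : G) * c₀) * (blockCoeff b c₀)⁻¹ := by
      rw [hprod u c₀ hc₀r, mul_assoc, mul_inv_cancel₀ h0, mul_one]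
    rw [this]
    exact memR_mul hM (hf'R _) (memR_inv hM (hbR _) hc₀')
  refine ⟨fun u => res M (α u), fun x => ?_⟩
  have hsing : ∀ v : P, p ∣ orderOf ((v : G)⁻¹ * x) → (blk M b).coeff ((v : G)⁻¹ * x) = 0 := by
    intro v hv
    by_contra h
    exact pRegular_of_blockCoeff hM hb (fun hI => h (by
      rw [blk, coeff_red]; exact (res_eq_zero_iff hM (hbR _)).2 hI)) hv
  by_cases hex : ∃ u : P, ¬ p ∣ orderOf ((u : G)⁻¹ * x)
  · obtain ⟨u, hu⟩ := hex
    rw [Finset.sum_eq_single u, hzf, blk, coeff_red, ← res_mul hM (hαR u) (hbR _), ← hprod u _ hu,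
      mul_inv_cancel_left]
    · intro v _ hne
      rw [hsing v, mul_zero]
      by_contra hv
      refine hne (Subtype.ext ?_)
      have h := eq_of_regular_of_mem hp hP hv hu (central_mem_centralizer hPZ _) (by
        rw [show ((v : G)⁻¹ * x)⁻¹ * ((u : G)⁻¹ * x) = x⁻¹ * ((v : G) * (u : G)⁻¹) * x⁻¹⁻¹ by group]
        exact Subgroup.Normal.conj_mem inferInstance _ (P.mul_mem v.2 (P.inv_mem u.2)) _)
      exact inv_injective (mul_right_cancel h)
    · exact fun h => absurd (Finset.mem_univ _) h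
  · push Not at hex
    rw [Finset.sum_eq_zero fun v _ => by rw [hsing v (hex v), mul_zero], hzf, hf'x,
      Finset.sum_eq_zero, mul_zero, res_zero hM]
    intro ξ hξ
    have h0 := (sum_regular_eq hp hP hPZ ξ (hfac ξ (hmem.1 hξ))).2 x fun u => by
      have h := hex u⁻¹
      rwa [Subgroup.coe_inv, inv_inv, ← Subgroup.mem_center_iff.1 (hPZ u.2) x] at h
    rw [h0, map_zero, mul_zero]

end Cfsg.Agent.AbelianEqualDegree
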