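import Cfsg.Agent.Lib.Blocks.AbelianEqualDegree.Centre
import Cfsg.Agent.Lib.Blocks.AbelianEqualDegree.Local
import Cfsg.Agent.Lib.BrauerPairs.AbelianDefect
import Cfsg.Agent.Lib.BrauerPairs.Correspondence

/-!
# Abelian defect group and equal degrees

`isNilpotentBlock_of_equal_degree`: a block with an abelian defect group whose characters all
have one degree is nilpotent.
-/

set_option autoImplicit false
set_option linter.unusedSectionVars false
set_option linter.style.haveILetI false
set_option maxHeartbeats 1000000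
set_option synthInstance.maxHeartbeats 200000

namespace Cfsg.Agent.AbelianEqualDegree

open Cfsg Cfsg.Agent.Blocks Cfsg.Agent.BrauerPairs Cfsg.Agent.EqualDegree

variable {G : Type*} [Group G] [Finite G] {p : ℕ} [Fact p.Prime] {M : Ideal AlgInt}

/-- The defect group of the block of the centralizer in a maximal pair on an abelian group. -/
theorem defect_local (hM : IsPModular p M) {B : Set (IrrCharacter G)} {D : Subgroup G}
    (hD : IsDefectGroup p M B D) (hab : ∀ a ∈ D, ∀ b ∈ D, a * b = b * a)
    {c : Set (IrrCharacter (Subgroup.centralizer (D : Set G)))} (hc : IsBrauerPairOf p M B D c) :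
    D.subgroupOf (Subgroup.centralizer (D : Set G)) ≤
        Subgroup.center (Subgroup.centralizer (D : Set G)) ∧
      IsDefectGroup p M c (D.subgroupOf (Subgroup.centralizer (D : Set G))) := by
  have := res_charP hM
  have := Fintype.ofFinite G
  have hDC : D ≤ (Subgroup.centralizer (D : Set G)) := fun u hu => Subgroup.mem_centralizer_iff.2 fun v hv => hab v hv u hu
  have hcen : D.subgroupOf (Subgroup.centralizer (D : Set G)) ≤ Subgroup.center (Subgroup.centralizer (D : Set G)) := fun u hu => Subgroup.mem_center_iff.2 fun x =>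
    Subtype.ext (Subgroup.mem_centralizer_iff.1 x.2 u hu).symm
  haveI : (D.subgroupOf (Subgroup.centralizer (D : Set G))).Normal :=
    ⟨fun u hu x => by rw [Subgroup.mem_center_iff.1 (hcen hu) x, mul_inv_cancel_right]; exact hu⟩
  refine ⟨hcen, ?_⟩
  obtain ⟨⟨hDp, hcb⟩, hB, hle⟩ := (isBrauerPairOf_iff hM).1 hc
  obtain ⟨R, hR⟩ := Blocks.exists_isDefectGroup (p := p) hM hcb
  have hDR : D.subgroupOf (Subgroup.centralizer (D : Set G)) ≤ R :=
    normal_le_defectGroup hM (Q := D.subgroupOf (Subgroup.centralizer (D : Set G)))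
      (hDp.comap_of_injective _ (Subgroup.centralizer (D : Set G)).subtype_injective) hcb hR
  have hRp : IsPGroup p (R.map (Subgroup.centralizer (D : Set G)).subtype) := (isPGroup_defectGroup hM hR).map _
  have hDR' : D ≤ R.map (Subgroup.centralizer (D : Set G)).subtype := fun u hu => ⟨⟨u, hDC hu⟩, hDR hu, rfl⟩
  have hbr := sub_br_defectGroup_ne_zero hM hR
  rw [show bIdem M (Subgroup.centralizer (D : Set G)) c = cb M D c from rfl, ← hle,
    br_mul (p := p) hRp ((br_blk_central hM D B).2.mono (Subgroup.map_subtype_le R))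
      ((bIdem_central _ c).2.mono (Subgroup.map_subtype_le R)), br_br hDR'] at hbr
  have hcard : Nat.card (R.map (Subgroup.centralizer (D : Set G)).subtype) ≤ Nat.card D :=
    card_le_of_br_ne_zero hM hB hRp (fun h0 => hbr (by rw [h0, zero_mul])) hD
  rw [Subgroup.card_map_of_injective (Subgroup.centralizer (D : Set G)).subtype_injective] at hcard
  have hDc : Nat.card (D.subgroupOf (Subgroup.centralizer (D : Set G))) = Nat.card D :=
    Nat.card_congr (Subgroup.subgroupOfEquivOfLe hDC).toEquiv
  rwa [← Subgroup.eq_of_le_of_card_ge hDR (hDc ▸ hcard)] at hR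

/-- The stabiliser of a maximal pair centralises the abelian defect group. -/
theorem pairStab_le_centralizer (hM : IsPModular p M) {B : Set (IrrCharacter G)}
    (hB : IsPBlock M B) {D : Subgroup G} (hD : IsDefectGroup p M B D)
    (hab : ∀ a ∈ D, ∀ b ∈ D, a * b = b * a) {d : ℕ}
    (hdeg : ∀ χ : IrrCharacter G, χ ∈ B → charDegree (χ : G → ℂ) = d)
    {c : Set (IrrCharacter (Subgroup.centralizer (D : Set G)))} (hc : IsBrauerPairOf p M B D c) :
    pairStab M D c ≤ Subgroup.centralizer (D : Set G) := by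
  classical
  letI := ModRep.resField hM
  have := res_charP hM
  have := Fintype.ofFinite G
  have hp : p.Prime := Fact.out
  obtain ⟨⟨hDp, hcb⟩, -, hle⟩ := (isBrauerPairOf_iff hM).1 hc
  obtain ⟨hcen, hdef⟩ := defect_local hM hD hab hc
  obtain ⟨ξ, hξ⟩ := isPBlock_nonempty hM hB
  have hd : 0 < d := hdeg ξ hξ ▸ charDegree_pos ξ
  obtain ⟨F⟩ := exists_frame (hM := hM) hB hdeg
  have hDC : D ≤ (Subgroup.centralizer (D : Set G)) := fun u hu => Subgroup.mem_centralizer_iff.2 fun v hv => hab v hv u hu
  haveI : Module.Finite (Res M) (MonoidAlgebra (Res M) G) :=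
    Module.Finite.equiv ((Finsupp.linearEquivFunOnFinite (Res M) (Res M) G).symm.trans
      (MonoidAlgebra.coeffLinearEquiv (Res M)).symm)
  set E := cb M D c with hE
  have hEC : IsCentralIn (Subgroup.centralizer (D : Set G)) E := bIdem_central _ c
  have hEE : E * E = E := bIdem_mul_self hM hcb
  -- the idempotent lives on the regular elements
  have hEreg : ∀ x, E.coeff x ≠ 0 → x ∈ (Subgroup.centralizer (D : Set G)) ∧ ¬ p ∣ orderOf x := by
    intro x hx
    have hxC : x ∈ (Subgroup.centralizer (D : Set G)) := hEC.1.mem_of_ne hx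
    refine ⟨hxC, ?_⟩
    rw [hE, show cb M D c = emb (Subgroup.centralizer (D : Set G)) (blk M c) from rfl,
      show x = ((⟨x, hxC⟩ : (Subgroup.centralizer (D : Set G))) : G) from rfl, coeff_emb_coe, blk, coeff_red] at hx
    have := pRegular_of_blockCoeff hM hcb fun hI =>
      hx ((res_eq_zero_iff hM (Blocks.memR_blockCoeff hM hcb _)).2 hI)
    rwa [← Subgroup.orderOf_coe] at this
  obtain ⟨g₀, hg₀⟩ : ∃ g₀, E.coeff g₀ ≠ 0 := by
    by_contra h
    push Not at h
    exact bIdem_ne_zero hM hcb (MonoidAlgebra.coeff_injective (Finsupp.ext h))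
  obtain ⟨hg₀C, hg₀r⟩ := hEreg g₀ hg₀
  -- the map to the local block
  let W : MonoidAlgebra (Res M) G → MonoidAlgebra (Res M) G := fun y => br D (F.zR y) * E
  have hWfix : ∀ y, Fixed (pairStab M D c) (W y) := fun y =>
    (Fixed.br ((F.fixed_zR y).mono le_top) (pairStab_le_normalizer D c)).mul
      (fixed_pairStab D c)
  have hWC : ∀ y, IsCentralIn (Subgroup.centralizer (D : Set G)) (W y) := fun y =>
    ⟨(suppIn_br D _).mul hEC.1, (hWfix y).mono (centralizer_le_pairStab hM D c)⟩
  -- the expansion along `D`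
  have hexp : ∀ y, ∃ a : D → Res M, ∀ x, (W y).coeff x = ∑ u : D, a u * E.coeff ((u : G)⁻¹ * x) := by
    intro y
    have hzb : pull (Subgroup.centralizer (D : Set G)) (W y) * blk M c = pull (Subgroup.centralizer (D : Set G)) (W y) := by
      refine emb_injective (Subgroup.centralizer (D : Set G)) ?_
      rw [map_mul, emb_pull (hWC y).1, show emb (Subgroup.centralizer (D : Set G)) (blk M c) = E from rfl]
      exact (mul_assoc _ _ _).trans (congrArg _ hEE)
    obtain ⟨a, ha⟩ := exists_coeff_of_central (G := (Subgroup.centralizer (D : Set G))) hM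
      (hDp.comap_of_injective _ (Subgroup.centralizer (D : Set G)).subtype_injective) hcen hcb hdef
      (fixed_pull (hWC y).2) hzb
    let e := Subgroup.subgroupOfEquivOfLe hDC
    refine ⟨fun u => a (e.symm u), fun x => ?_⟩
    by_cases hx : x ∈ (Subgroup.centralizer (D : Set G))
    · have h1 := ha ⟨x, hx⟩
      rw [coeff_pull] at h1
      rw [h1]
      refine Fintype.sum_equiv e.toEquiv _ _ fun v => ?_
      refine congrArg₂ (· * ·) (congrArg a (e.symm_apply_apply v).symm) ?_
      exact (coeff_emb_coe (Subgroup.centralizer (D : Set G)) (blk M c) ((v : (Subgroup.centralizer (D : Set G)))⁻¹ * ⟨x, hx⟩)).symm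
    · rw [(hWC y).1 x hx, Finset.sum_eq_zero]
      intro u _
      rw [hEC.1 _ fun h => hx (by simpa using (Subgroup.centralizer (D : Set G)).mul_mem (hDC u.2) h), mul_zero]
  -- evaluation
  have heval : ∀ (a : D → Res M) (u : D) (g : G), g ∈ (Subgroup.centralizer (D : Set G)) → ¬ p ∣ orderOf g →
      ∑ v : D, a v * E.coeff ((v : G)⁻¹ * ((u : G) * g)) = a u * E.coeff g := by
    intro a u g hgC hgr
    rw [Finset.sum_eq_single u, inv_mul_cancel_left]
    · intro v _ hne
      rw [mul_eq_zero]
      refine Or.inr ?_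
      by_contra h
      obtain ⟨-, hr⟩ := hEreg _ h
      refine hne (Subtype.ext ?_)
      have hh := BlocksNormal.eq_of_regular_of_mem hp hDp hgr hr hgC (by
        have e : ∀ w ∈ D, g⁻¹ * w * g = w := fun w hw => by
          rw [mul_assoc, Subgroup.mem_centralizer_iff.1 hgC w hw, inv_mul_cancel_left]
        rw [show g⁻¹ * ((v : G)⁻¹ * ((u : G) * g)) = g⁻¹ * ((v : G)⁻¹ * (u : G)) * g by group,
          e _ (D.mul_mem (D.inv_mem v.2) u.2)]
        exact D.mul_mem (D.inv_mem v.2) u.2)
      rw [← mul_assoc, eq_comm, mul_eq_right] at hh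
      exact inv_mul_eq_one.1 hh
    · exact fun h => absurd (Finset.mem_univ _) h
  let lam : F.Corner →ₗ[Res M] (D → Res M) :=
    { toFun := fun y u => (W y.1).coeff ((u : G) * g₀) * (E.coeff g₀)⁻¹
      map_add' := fun y y' => funext fun u => by
        simp only [W, Submodule.coe_add, Frame.zR, mul_add, add_mul, Finset.sum_add_distrib, br_add,
          MonoidAlgebra.coeff_add, Finsupp.add_apply, Pi.add_apply]
      map_smul' := fun r y => funext fun u => by
        have hsm : br D (r • F.zR (y : MonoidAlgebra (Res M) G)) =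
            r • br D (F.zR (y : MonoidAlgebra (Res M) G)) := by
          ext x
          simp only [coeff_br, MonoidAlgebra.coeff_smul, Finsupp.smul_apply, smul_eq_mul, mul_ite,
            mul_zero]
        have hz : F.zR (r • (y : MonoidAlgebra (Res M) G)) =
            r • F.zR (y : MonoidAlgebra (Res M) G) := by
          simp only [Frame.zR, mul_smul_comm, smul_mul_assoc, Finset.smul_sum]
        simp only [W, Submodule.coe_smul, hz, hsm, smul_mul_assoc, MonoidAlgebra.coeff_smul,
          Finsupp.smul_apply, smul_eq_mul, RingHom.id_apply, Pi.smul_apply, mul_assoc] }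
  have hW : ∀ (y : F.Corner) x, (W y.1).coeff x = ∑ u : D, lam y u * E.coeff ((u : G)⁻¹ * x) := by
    intro y x
    obtain ⟨a, ha⟩ := hexp y.1
    rw [ha x]
    refine Finset.sum_congr rfl fun u _ => congrArg (· * _) ?_
    show a u = (W y.1).coeff ((u : G) * g₀) * (E.coeff g₀)⁻¹
    rw [ha, heval a u g₀ hg₀C hg₀r, mul_assoc, mul_inv_cancel₀ hg₀, mul_one]
  -- injectivity
  obtain ⟨x₀, hx₀⟩ : ∃ x₀, (br D (blk M B)).coeff x₀ ≠ 0 := by
    by_contra h
    push Not at h
    exact br_defectGroup_ne_zero hM hD (MonoidAlgebra.coeff_injective (Finsupp.ext h))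
  obtain ⟨hx₀C, hx₀B⟩ : x₀ ∈ (Subgroup.centralizer (D : Set G)) ∧ (blk M B).coeff x₀ ≠ 0 := by
    rw [coeff_br] at hx₀
    split_ifs at hx₀ with h
    · exact ⟨h, hx₀⟩
    · exact absurd rfl hx₀
  have hx₀r : ¬ p ∣ orderOf x₀ := pRegular_of_blockCoeff hM hB fun hI => hx₀B (by
    rw [blk, coeff_red]; exact (res_eq_zero_iff hM (Blocks.memR_blockCoeff hM hB _)).2 hI)
  have hφ : res M ((ξ : G → ℂ) x₀⁻¹) ≠ 0 := by
    intro h
    apply hx₀B
    rw [← F.zR_J, F.coeff_zR hx₀r hξ hdeg, h, zero_mul]
  have hinj : Function.Injective lam := by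
    rw [← LinearMap.ker_eq_bot, LinearMap.ker_eq_bot']
    intro y hy
    have hW0 : W y.1 = 0 := by
      ext x
      rw [hW y x, hy]
      simp
    have hbr0 : br D (F.zR y.1) = 0 := by
      have h := mul_br_blk_of_defect hM hD hc (y := 1 - br D (F.zR y.1))
        (Star.fixed_sub Fixed.one (Fixed.br ((F.fixed_zR _).mono le_top) le_rfl))
        (by
          show (1 - br D (F.zR y.1)) * E = E
          rw [sub_mul, one_mul]
          exact (congrArg _ hW0).trans (sub_zero _))
      rw [sub_mul, one_mul, sub_eq_self, ← br_mul (p := p) hDp ((F.fixed_zR _).mono le_top)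
        ((fixed_blk B).mono le_top), F.zR_mul_blk y.2] at h
      exact h
    have hμ : ∀ s, F.InC s → ((y.1 : MonoidAlgebra (Res M) G) * s).coeff 1 = 0 := by
      intro s hs
      have h : br D (F.zR (y.1 * s)) = 0 := by
        rw [← F.zR_mul y.2 hs, br_mul (p := p) hDp ((F.fixed_zR _).mono le_top)
          ((F.fixed_zR _).mono le_top), hbr0, zero_mul]
      have h1 := congrArg (fun z : MonoidAlgebra (Res M) G => z.coeff x₀) h
      simp only [coeff_br, MonoidAlgebra.coeff_zero, Finsupp.zero_apply] at h1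
      rw [if_pos hx₀C, F.coeff_zR hx₀r hξ hdeg, mul_eq_zero, ← mul_assoc, y.2.1] at h1
      exact h1.resolve_left hφ
    refine Subtype.ext (MonoidAlgebra.coeff_injective (Finsupp.ext fun g => ?_))
    have h := hμ _ (F.sandwich (MonoidAlgebra.single g⁻¹ (1 : Res M)))
    rw [← mul_assoc, ← mul_assoc, y.2.2, coeff_one_mul_comm, ← mul_assoc, y.2.1,
      MonoidAlgebra.coeff_mul_single_apply, inv_inv, one_mul, mul_one] at h
    simpa using h
  have hcardD : Nat.card D ≤ Nat.card B :=
    Nat.le_of_dvd (Nat.card_pos_iff.2 ⟨⟨⟨ξ, hξ⟩⟩, inferInstance⟩) (F.dvd_card_block hD hdeg)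
  have hsurj : Function.Surjective lam := by
    refine (LinearMap.injective_iff_surjective_of_finrank_eq_finrank ?_).1 hinj
    refine le_antisymm (LinearMap.finrank_le_finrank_of_injective hinj) ?_
    rw [Module.finrank_fintype_fun_eq_card, ← Nat.card_eq_fintype_card]
    exact hcardD.trans (F.card_block_le_corner hdeg hd)
  -- conclusion
  intro t ht
  rw [Subgroup.mem_centralizer_iff]
  intro u hu
  by_contra hne
  have htn : ∀ w ∈ D, t⁻¹ * w * t ∈ D := fun w hw =>
    (Subgroup.mem_normalizer_iff''.1 (pairStab_le_normalizer D c ht) w).1 hw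
  let u' : D := ⟨t⁻¹ * u * t, htn u hu⟩
  have hne' : u' ≠ ⟨u, hu⟩ := fun h => hne (by
    have h' : t⁻¹ * u * t = u := congrArg Subtype.val h
    calc u * t = t * (t⁻¹ * u * t) := by group
      _ = t * u := by rw [h'])
  obtain ⟨y, hy⟩ := hsurj (Pi.single (⟨u, hu⟩ : D) 1)
  have hinv : lam y ⟨u, hu⟩ = lam y u' := by
    have h1 := congrArg (fun z : MonoidAlgebra (Res M) G => z.coeff (u * g₀)) (hWfix y.1 t ht)
    simp only [coeff_cj] at h1
    have hg : E.coeff (t⁻¹ * g₀ * t) = E.coeff g₀ := by
      have h := congrArg (fun z : MonoidAlgebra (Res M) G => z.coeff g₀)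
        (fixed_pairStab (M := M) D c t ht)
      simpa only [coeff_cj] using h
    obtain ⟨hgC, hgr⟩ := hEreg _ (hg.symm ▸ hg₀ : E.coeff (t⁻¹ * g₀ * t) ≠ 0)
    rw [show t⁻¹ * (u * g₀) * t = (u' : G) * (t⁻¹ * g₀ * t) by simp only [u']; group, hW, hW,
      heval _ u' _ hgC hgr, show u * g₀ = ((⟨u, hu⟩ : D) : G) * g₀ from rfl,
      heval _ _ g₀ hg₀C hg₀r, hg] at h1
    exact (mul_right_cancel₀ hg₀ h1).symm
  rw [hy, Pi.single_eq_same, Pi.single_eq_of_ne hne'] at hinv
  exact one_ne_zero hinv

/-- A block with abelian defect group whose characters all have one degree is nilpotent. -/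
theorem isNilpotentBlock_of_equal_degree (hM : IsPModular p M) {B : Set (IrrCharacter G)}
    (hB : IsPBlock M B) {D : Subgroup G} (hD : IsDefectGroup p M B D)
    (hab : ∀ a ∈ D, ∀ b ∈ D, a * b = b * a) {d : ℕ}
    (hdeg : ∀ χ : IrrCharacter G, χ ∈ B → charDegree (χ : G → ℂ) = d) :
    IsNilpotentBlock p M B := by
  refine ⟨hB, fun Q f hQf x hxN hxst _ => ?_⟩
  obtain ⟨P, e, hmax, hle⟩ := exists_maximal_ge hM hQf
  have hP := maximal_isDefectGroup hM hmax
  obtain ⟨y, hy⟩ := isDefectGroup_conj_eq hM hB hD hP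
  have habP : ∀ a ∈ P, ∀ b ∈ P, a * b = b * a := by
    intro a ha b hb
    rw [← hy, mem_conjSub] at ha hb
    have h := hab _ ha _ hb
    have h2 : y⁻¹ * (a * b) * y = y⁻¹ * (b * a) * y := by
      simpa [mul_assoc] using h
    exact mul_left_cancel (mul_right_cancel h2)
  have hf := hQf.1.2
  have hxT : x ∈ pairStab M Q f :=
    ⟨hxN, (stabilizesBlock_iff hM hf (mem_normalizer_centralizer hxN)).1 hxst⟩
  obtain ⟨z, hz, hzx⟩ := abelian_decomp hM hmax habP hf hle hxT
  have hQP : Q ≤ P :=
    subgroup_le_of_subpairLE (a := (⟨Q, f⟩ : BrauerPairIdx G)) (b := ⟨P, e⟩) hle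
  have h := Subgroup.centralizer_le hQP
    (pairStab_le_centralizer hM hB hP habP hdeg hmax.1 hzx)
  simpa using Subgroup.mul_mem _ (Subgroup.inv_mem _ hz) h

end Cfsg.Agent.AbelianEqualDegree
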